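import Cfsg.Agent.Lib.Grp.U43.Defs

set_option autoImplicit false
set_option maxRecDepth 100000
set_option Elab.async false
set_option linter.unusedSectionVars false

namespace Cfsg.Agent.CG.U43

theorem c0 : allRange (chkBase 540 16 (appT tabs t46 0xffff) 0 (inv 0)) 0 540 = true := by decide +kernel
theorem c1 : allRange (chkBase 540 16 (appT tabs t46 0xffff) 1 (inv 1)) 0 540 = true := by decide +kernel
theorem c2 : allRange (chkBase 540 16 (appT tabs t46 0xffff) 2 (inv 2)) 0 540 = true := by decide +kernel
theorem c3 : allRange (chkBase 540 16 (appT tabs t46 0xffff) 3 (inv 3)) 0 540 = true := by decide +kernel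
theorem c4 : chkDef 16 (appT tabs t46 0xffff) 4 (slp 4) 0 540 = true := by decide +kernel
theorem c5 : chkDef 16 (appT tabs t46 0xffff) 5 (slp 5) 0 540 = true := by decide +kernel
theorem c6 : chkDef 16 (appT tabs t46 0xffff) 6 (slp 6) 0 540 = true := by decide +kernel
theorem c7 : chkDef 16 (appT tabs t46 0xffff) 7 (slp 7) 0 540 = true := by decide +kernel
theorem c8 : chkDef 16 (appT tabs t46 0xffff) 8 (slp 8) 0 540 = true := by decide +kernel
theorem c9 : chkDef 16 (appT tabs t46 0xffff) 9 (slp 9) 0 540 = true := by decide +kernel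
theorem c10 : chkDef 16 (appT tabs t46 0xffff) 10 (slp 10) 0 540 = true := by decide +kernel
theorem c11 : chkDef 16 (appT tabs t46 0xffff) 11 (slp 11) 0 540 = true := by decide +kernel
theorem c12 : chkDef 16 (appT tabs t46 0xffff) 12 (slp 12) 0 540 = true := by decide +kernel
theorem c13 : chkDef 16 (appT tabs t46 0xffff) 13 (slp 13) 0 540 = true := by decide +kernel
theorem c14 : chkDef 16 (appT tabs t46 0xffff) 14 (slp 14) 0 540 = true := by decide +kernel
theorem c15 : chkDef 16 (appT tabs t46 0xffff) 15 (slp 15) 0 540 = true := by decide +kernel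
theorem c16 : chkDef 16 (appT tabs t46 0xffff) 16 (slp 16) 0 540 = true := by decide +kernel
theorem c17 : chkDef 16 (appT tabs t46 0xffff) 17 (slp 17) 0 540 = true := by decide +kernel
theorem c18 : chkDef 16 (appT tabs t46 0xffff) 18 (slp 18) 0 540 = true := by decide +kernel
theorem c19 : chkDef 16 (appT tabs t46 0xffff) 19 (slp 19) 0 540 = true := by decide +kernel
theorem c20 : chkDef 16 (appT tabs t46 0xffff) 20 (slp 20) 0 540 = true := by decide +kernel
theorem c21 : chkDef 16 (appT tabs t46 0xffff) 21 (slp 21) 0 540 = true := by decide +kernel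
theorem c22 : chkDef 16 (appT tabs t46 0xffff) 22 (slp 22) 0 540 = true := by decide +kernel
theorem c23 : chkDef 16 (appT tabs t46 0xffff) 23 (slp 23) 0 540 = true := by decide +kernel
theorem c24 : chkDef 16 (appT tabs t46 0xffff) 24 (slp 24) 0 540 = true := by decide +kernel
theorem c25 : chkDef 16 (appT tabs t46 0xffff) 25 (slp 25) 0 540 = true := by decide +kernel
theorem c26 : chkDef 16 (appT tabs t46 0xffff) 26 (slp 26) 0 540 = true := by decide +kernel
theorem c27 : chkDef 16 (appT tabs t46 0xffff) 27 (slp 27) 0 540 = true := by decide +kernel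
theorem c28 : chkDef 16 (appT tabs t46 0xffff) 28 (slp 28) 0 540 = true := by decide +kernel
theorem c29 : chkDef 16 (appT tabs t46 0xffff) 29 (slp 29) 0 540 = true := by decide +kernel
theorem c30 : chkDef 16 (appT tabs t46 0xffff) 30 (slp 30) 0 540 = true := by decide +kernel
theorem c31 : chkDef 16 (appT tabs t46 0xffff) 31 (slp 31) 0 540 = true := by decide +kernel
theorem c32 : chkDef 16 (appT tabs t46 0xffff) 32 (slp 32) 0 540 = true := by decide +kernel
theorem c33 : chkDef 16 (appT tabs t46 0xffff) 33 (slp 33) 0 540 = true := by decide +kernel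
theorem c34 : chkDef 16 (appT tabs t46 0xffff) 34 (slp 34) 0 540 = true := by decide +kernel
theorem c35 : chkDef 16 (appT tabs t46 0xffff) 35 (slp 35) 0 540 = true := by decide +kernel
theorem c36 : chkDef 16 (appT tabs t46 0xffff) 36 (slp 36) 0 540 = true := by decide +kernel
theorem c37 : chkDef 16 (appT tabs t46 0xffff) 37 (slp 37) 0 540 = true := by decide +kernel
theorem c38 : chkDef 16 (appT tabs t46 0xffff) 38 (slp 38) 0 540 = true := by decide +kernel
theorem c39 : chkDef 16 (appT tabs t46 0xffff) 39 (slp 39) 0 540 = true := by decide +kernel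
theorem c40 : chkDef 16 (appT tabs t46 0xffff) 40 (slp 40) 0 540 = true := by decide +kernel
theorem c41 : chkDef 16 (appT tabs t46 0xffff) 41 (slp 41) 0 540 = true := by decide +kernel
theorem c42 : chkDef 16 (appT tabs t46 0xffff) 42 (slp 42) 0 540 = true := by decide +kernel
theorem c43 : chkDef 16 (appT tabs t46 0xffff) 43 (slp 43) 0 540 = true := by decide +kernel
theorem c44 : chkDef 16 (appT tabs t46 0xffff) 44 (slp 44) 0 540 = true := by decide +kernel
theorem c45 : chkDef 16 (appT tabs t46 0xffff) 45 (slp 45) 0 540 = true := by decide +kernel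
theorem c46 : chkDef 16 (appT tabs t46 0xffff) 46 (false, []) 0 540 = true := by decide +kernel
theorem c47 : mc0.chk (appT tabs t46 0xffff) 1 539 = true := by decide +kernel
theorem c48 : mc1.chk (appT tabs t46 0xffff) 1 62 = true := by decide +kernel
theorem c49 : mc2.chk (appT tabs t46 0xffff) 1 3 = true := by decide +kernel
theorem c50 : mc3.chk (appT tabs t46 0xffff) 1 5 = true := by decide +kernel
theorem c51 : mc4.chk (appT tabs t46 0xffff) 1 1 = true := by decide +kernel
theorem c52 : mc5.chk (appT tabs t46 0xffff) 1 1 = true := by decide +kernel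
theorem c53 : okcb 540 16 (bases mc) = true := by decide +kernel
theorem c54 : headAll (appT tabs t46 0xffff) mc [] = true := by decide +kernel
theorem c55 : tc0.head tcR = true := by decide +kernel
theorem c56 : allL (fun a => tc0.chk a 0 tc0.N) tc0.S = true := by decide +kernel
theorem c57 : tc1.head tcR = true := by decide +kernel
theorem c58 : allL (fun a => tc1.chk a 0 tc1.N) tc1.S = true := by decide +kernel
theorem c59 : tc2.head tcR = true := by decide +kernel
theorem c60 : allL (fun a => tc2.chk a 0 tc2.N) tc2.S = true := by decide +kernel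
theorem c61 : tc3.head tcR = true := by decide +kernel
theorem c62 : allL (fun a => tc3.chk a 0 tc3.N) tc3.S = true := by decide +kernel
theorem c63 : tc4.head tcR = true := by decide +kernel
theorem c64 : allL (fun a => tc4.chk a 0 tc4.N) tc4.S = true := by decide +kernel
theorem c65 : tc5.head tcR = true := by decide +kernel
theorem c66 : allL (fun a => tc5.chk a 0 tc5.N) tc5.S = true := by decide +kernel
theorem c67 : tcLink tc [] [37,38,39,40,41,42,43,44,45] = true := by decide +kernel
theorem c68 : oneAll 16 (appT tabs t46 0xffff) [37,37] 0 540 = true := by decide +kernel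
theorem c69 : oneAll 16 (appT tabs t46 0xffff) [38,39] 0 540 = true := by decide +kernel
theorem c70 : oneAll 16 (appT tabs t46 0xffff) [39,38] 0 540 = true := by decide +kernel
theorem c71 : oneAll 16 (appT tabs t46 0xffff) [38,38,37] 0 540 = true := by decide +kernel
theorem c72 : oneAll 16 (appT tabs t46 0xffff) [40,41] 0 540 = true := by decide +kernel
theorem c73 : oneAll 16 (appT tabs t46 0xffff) [41,40] 0 540 = true := by decide +kernel
theorem c74 : oneAll 16 (appT tabs t46 0xffff) [40,40,40] 0 540 = true := by decide +kernel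
theorem c75 : oneAll 16 (appT tabs t46 0xffff) [41,37,40,37] 0 540 = true := by decide +kernel
theorem c76 : oneAll 16 (appT tabs t46 0xffff) [40,39,40,38,40,39] 0 540 = true := by decide +kernel
theorem c77 : oneAll 16 (appT tabs t46 0xffff) [42,43] 0 540 = true := by decide +kernel
theorem c78 : oneAll 16 (appT tabs t46 0xffff) [43,42] 0 540 = true := by decide +kernel
theorem c79 : oneAll 16 (appT tabs t46 0xffff) [43,37,42,37] 0 540 = true := by decide +kernel
theorem c80 : oneAll 16 (appT tabs t46 0xffff) [43,38,42,39] 0 540 = true := by decide +kernel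
theorem c81 : oneAll 16 (appT tabs t46 0xffff) [42,42,42,42] 0 540 = true := by decide +kernel
theorem c82 : oneAll 16 (appT tabs t46 0xffff) [43,41,42,41,39] 0 540 = true := by decide +kernel
theorem c83 : oneAll 16 (appT tabs t46 0xffff) [44,44] 0 540 = true := by decide +kernel
theorem c84 : oneAll 16 (appT tabs t46 0xffff) [44,40,44,41] 0 540 = true := by decide +kernel
theorem c85 : oneAll 16 (appT tabs t46 0xffff) [44,37,44,37,44,37] 0 540 = true := by decide +kernel
theorem c86 : oneAll 16 (appT tabs t46 0xffff) [44,43,44,42,44,42,44,43] 0 540 = true := by decide +kernel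
theorem c87 : oneAll 16 (appT tabs t46 0xffff) [44,42,44,37,44,42,44,37,42] 0 540 = true := by decide +kernel
theorem c88 : oneAll 16 (appT tabs t46 0xffff) [45,45] 0 540 = true := by decide +kernel
theorem c89 : oneAll 16 (appT tabs t46 0xffff) [45,42,45,42,45,42] 0 540 = true := by decide +kernel
theorem c90 : oneAll 16 (appT tabs t46 0xffff) [45,44,45,44,45,44] 0 540 = true := by decide +kernel
theorem c91 : oneAll 16 (appT tabs t46 0xffff) [45,37,45,37,45,37,45,37] 0 540 = true := by decide +kernel
theorem c92 : oneAll 16 (appT tabs t46 0xffff) [45,41,45,40,45,40,45,41] 0 540 = true := by decide +kernel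
theorem c93 : oneAll 16 (appT tabs t46 0xffff) [45,37,45,42,45,37,45,37,43] 0 540 = true := by decide +kernel
theorem c94 : oneAll 16 (appT tabs t46 0xffff) [45,37,45,38,45,37,45,39,43,43] 0 540 = true := by decide +kernel
theorem c95 : oneAll 16 (appT tabs t46 0xffff) [45,43,43,44,43,37,45,43,43,44,37,43] 0 540 = true := by decide +kernel
theorem c96 : oneAll 16 (appT tabs t46 0xffff) [45,38,45,42,38,45,41,39,40,43,44,43,43,44] 0 540 = true := by decide +kernel
theorem c97 : eqAll 16 (appT tabs t46 0xffff) [0] (nth inW [] 0) 0 540 = true := by decide +kernel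
theorem c98 : eqAll 16 (appT tabs t46 0xffff) [1] (nth inW [] 1) 0 540 = true := by decide +kernel
theorem c99 : eqAll 16 (appT tabs t46 0xffff) [2] (nth inW [] 2) 0 540 = true := by decide +kernel
theorem c100 : eqAll 16 (appT tabs t46 0xffff) [3] (nth inW [] 3) 0 540 = true := by decide +kernel

end Cfsg.Agent.CG.U43
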