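import Cfsg.Agent.Lib.Grp.U43.D0

set_option autoImplicit false
set_option maxRecDepth 100000
set_option Elab.async false
set_option linter.unusedSectionVars false

namespace Cfsg.Agent.CG.U43

noncomputable def tabs : List ℕ := [t0,t1,t2,t3,t4,t5,t6,t7,t8,t9,t10,t11,t12,t13,t14,t15,t16,t17,t18,t19,t20,t21,t22,t23,t24,t25,t26,t27,t28,t29,t30,t31,t32,t33,t34,t35,t36,t37,t38,t39,t40,t41,t42,t43,t44,t45]
noncomputable abbrev app : ℕ → ℕ → ℕ := appT tabs t46 0xffff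
noncomputable def slpL : List (Bool × List ℕ) := [(false,[]),
  (false,[]),
  (false,[]),
  (false,[]),
  (false,[3,0]),
  (true,[4]),
  (false,[3,3,0]),
  (true,[6]),
  (false,[6,6,6]),
  (false,[4]),
  (true,[9]),
  (false,[2,7,3,1,6,3,6,4,3,4,6,8,7,5,2,5,7,2,7,0,2,6,3]),
  (false,[11,10,11,9]),
  (true,[12]),
  (false,[10,10,13]),
  (true,[14]),
  (false,[13,14,11]),
  (true,[16]),
  (false,[13,10,12,15,9]),
  (true,[18]),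
  (false,[13,10,17,12]),
  (true,[20]),
  (false,[10,11,10,16]),
  (true,[22]),
  (false,[21,21,19,21]),
  (true,[24]),
  (false,[19,19,22,20]),
  (true,[26]),
  (false,[18,23]),
  (true,[28]),
  (false,[29]),
  (true,[30]),
  (false,[27,27]),
  (true,[32]),
  (false,[31,33]),
  (true,[34]),
  (false,[35,35]),
  (false,[36]),
  (false,[34]),
  (true,[38]),
  (false,[32,36]),
  (true,[40]),
  (false,[25,33,31,34]),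
  (true,[42]),
  (false,[21,23,18,26,32,31,36]),
  (false,[17,15,23,18,25,32,31,36])]
noncomputable def slp (a : ℕ) : Bool × List ℕ := nth slpL (false, []) a
noncomputable def invL : List ℕ := [1,0,3,2,5,4,7,6,8,10,9,11,13,12,15,14,17,16,19,18,21,20,23,22,25,24,27,26,29,28,31,30,33,32,35,34,36,37,39,38,41,40,43,42,44,45]
noncomputable def inv (a : ℕ) : ℕ := nth invL 46 a
noncomputable def bs : List ℕ := [160,3424,4272,5440,3328,2720]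
noncomputable def mc0 : Lvl := ⟨160, [9,10,11,12,13,14,15,16,17], 540,
  fun i => look 0xffff mc0c (Nat.mul 16 i), fun i => look 0xfff mc0p (Nat.mul 12 i),
  fun i => look 0xff mc0l (Nat.mul 8 i), fun i => look 0xff mc0i (Nat.mul 8 i), fun x => look 0xffff mc0q x, 4⟩
noncomputable def mc1 : Lvl := ⟨3424, [18,19,20,21,22,23], 63,
  fun i => look 0xffff mc1c (Nat.mul 16 i), fun i => look 0xff mc1p (Nat.mul 8 i),
  fun i => look 0xff mc1l (Nat.mul 8 i), fun i => look 0xff mc1i (Nat.mul 8 i), fun x => look 0xffff mc1q x, 4⟩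
noncomputable def mc2 : Lvl := ⟨4272, [24,25,26,27], 4,
  fun i => look 0xffff mc2c (Nat.mul 16 i), fun i => look 0xf mc2p (Nat.mul 4 i),
  fun i => look 0xff mc2l (Nat.mul 8 i), fun i => look 0xff mc2i (Nat.mul 8 i), fun x => look 0xffff mc2q x, 1⟩
noncomputable def mc3 : Lvl := ⟨5440, [30,31,32,33], 6,
  fun i => look 0xffff mc3c (Nat.mul 16 i), fun i => look 0xf mc3p (Nat.mul 4 i),
  fun i => look 0xff mc3l (Nat.mul 8 i), fun i => look 0xff mc3i (Nat.mul 8 i), fun x => look 0xffff mc3q x, 2⟩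
noncomputable def mc4 : Lvl := ⟨3328, [34,35], 2,
  fun i => look 0xffff mc4c (Nat.mul 16 i), fun i => look 0xf mc4p (Nat.mul 4 i),
  fun i => look 0xff mc4l (Nat.mul 8 i), fun i => look 0xff mc4i (Nat.mul 8 i), fun x => look 0xffff mc4q x, 1⟩
noncomputable def mc5 : Lvl := ⟨2720, [36], 2,
  fun i => look 0xffff mc5c (Nat.mul 16 i), fun i => look 0xf mc5p (Nat.mul 4 i),
  fun i => look 0xff mc5l (Nat.mul 8 i), fun i => look 0xff mc5i (Nat.mul 8 i), fun x => look 0xffff mc5q x, 1⟩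
noncomputable def mc : List Lvl := [mc0, mc1, mc2, mc3, mc4, mc5]
noncomputable def tcR : List (List ℕ) := [[37,37],
  [38,39],
  [39,38],
  [38,38,37],
  [40,41],
  [41,40],
  [40,40,40],
  [41,37,40,37],
  [40,39,40,38,40,39],
  [42,43],
  [43,42],
  [43,37,42,37],
  [43,38,42,39],
  [42,42,42,42],
  [43,41,42,41,39],
  [44,44],
  [44,40,44,41],
  [44,37,44,37,44,37],
  [44,43,44,42,44,42,44,43],
  [44,42,44,37,44,42,44,37,42],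
  [45,45],
  [45,42,45,42,45,42],
  [45,44,45,44,45,44],
  [45,37,45,37,45,37,45,37],
  [45,41,45,40,45,40,45,41],
  [45,37,45,42,45,37,45,37,43],
  [45,37,45,38,45,37,45,39,43,43],
  [45,43,43,44,43,37,45,43,43,44,37,43],
  [45,38,45,42,38,45,41,39,40,43,44,43,43,44]]
noncomputable def tc0T : List ℕ := [0,0,0,0,0,0,0,0,0,0,0,0,0,0,0,0,0,0,0,0,0,0,0,0,0,0,0,0,0,0,0,0,0,0,0,0,0,tc0t37,tc0t38,tc0t39,tc0t40,tc0t41,tc0t42,tc0t43,tc0t44,tc0t45]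
noncomputable def tc0r : Tr Rule := (.node (.node (.node (.node (.node (.node (.node (.leaf ⟨45,[45],20,1⟩) (.leaf ⟨44,[42,44,37,42,44,42,44,37],19,4⟩)) (.node (.leaf ⟨40,[38,40,39,40,39],8,2⟩) (.leaf ⟨45,[43,43,44,37,43,45,43,43,44,43,37],27,6⟩))) (.node (.node (.leaf ⟨39,[43,38,42],12,3⟩) (.leaf ⟨42,[44,43,44,43,44,42,44],18,5⟩)) (.node (.leaf ⟨41,[45,41,45,40,45,40,45],24,7⟩) (.leaf ⟨44,[45,44,45,44,45],22,1⟩)))) (.node (.node (.node (.leaf ⟨44,[44],15,1⟩) (.leaf ⟨43,[44,37,43,45,43,43,44,43,37,45,43],27,8⟩)) (.node (.leaf ⟨45,[42,45,42,45,42],21,4⟩) (.leaf ⟨37,[45,37,45,37,45,37,45],23,1⟩))) (.node (.node (.leaf ⟨44,[37,44,37,44,37],17,4⟩) (.leaf ⟨37,[42,44,42,44,37,44,42,44],19,7⟩)) (.leaf ⟨45,[42,45,37,45,37,43,45,37],25,2⟩)))) (.node (.node (.node (.node (.leaf ⟨41,[40],4,1⟩) (.leaf ⟨43,[43,44,43,37,45,43,43,44,37,43,45],27,1⟩))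 (.node (.leaf ⟨42,[37,43,37],11,2⟩) (.leaf ⟨45,[38,45,42,38,45,41,39,40,43,44,43,43,44],28,0⟩))) (.node (.node (.leaf ⟨40,[44,41,44],16,1⟩) (.leaf ⟨44,[43,44,43,44,42,44,42],18,6⟩)) (.leaf ⟨45,[37,43,45,37,45,42,45,37],25,6⟩))) (.node (.node (.node (.leaf ⟨37,[43,37,42],11,3⟩) (.leaf ⟨40,[43,44,43,43,44,45,38,45,42,38,45,41,39],28,8⟩)) (.node (.leaf ⟨44,[41,44,40],16,2⟩) (.leaf ⟨45,[44,45,44,45,44],22,0⟩))) (.node (.node (.leaf ⟨43,[37,42,37],11,0⟩) (.leaf ⟨42,[45,42,45,42,45],21,5⟩)) (.leaf ⟨44,[37,43,45,43,43,44,43,37,45,43,43],27,9⟩))))) (.node (.node (.node (.node (.node (.leaf ⟨39,[38],1,1⟩) (.leaf ⟨42,[44,37,44,42,44,37,42,44],19,1⟩)) (.node (.leaf ⟨41,[42,41,39,43],14,1⟩) (.leaf ⟨45,[41,39,40,43,44,43,43,44,45,38,45,42,38],28,5⟩))) (.node (.node (.leaf ⟨40,[40,40],6,2⟩) (.leaf ⟨43,[44,43,44,42,44,42,44],18,7⟩)) (.node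 (.leaf ⟨38,[40,39,40,39,40],8,3⟩) (.leaf ⟨37,[44,37,44,37,44],17,5⟩)))) (.node (.node (.node (.leaf ⟨37,[41,37,40],7,3⟩) (.leaf ⟨43,[43,45,37,45,38,45,37,45,39],26,8⟩)) (.node (.leaf ⟨45,[44,45,44,45,44],22,4⟩) (.leaf ⟨45,[37,45,37,45,37,45,37],23,6⟩))) (.node (.node (.leaf ⟨40,[40,40],6,1⟩) (.leaf ⟨38,[45,41,39,40,43,44,43,43,44,45,38,45,42],28,4⟩)) (.leaf ⟨38,[45,37,45,39,43,43,45,37,45],26,3⟩)))) (.node (.node (.node (.node (.leaf ⟨43,[42],9,1⟩) (.leaf ⟨45,[37,45,37,43,45,37,45,42],25,4⟩)) (.node (.leaf ⟨42,[42,42,42],13,3⟩) (.leaf ⟨37,[45,38,45,37,45,39,43,43,45],26,1⟩))) (.node (.node (.leaf ⟨41,[37,40,37],7,0⟩) (.leaf ⟨44,[43,44,42,44,42,44,43],18,0⟩)) (.leaf ⟨43,[45,37,45,42,45,37,45,37],25,8⟩))) (.node (.node (.node (.leaf ⟨37,[38,38],3,2⟩) (.leaf ⟨45,[42,45,42,45,42],21,2⟩)) (.node (.leaf ⟨40,[45,41,45,41,45,40,45],24,5⟩)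 (.leaf ⟨37,[45,39,43,43,45,37,45,38,45],26,5⟩))) (.node (.node (.leaf ⟨42,[39,43,38],12,2⟩) (.leaf ⟨43,[45,43,43,44,43,37,45,43,43,44,37],27,11⟩)) (.leaf ⟨44,[42,44,43,44,43,44,42],18,4⟩)))))) (.node (.node (.node (.node (.node (.node (.leaf ⟨37,[37],0,1⟩) (.leaf ⟨42,[44,42,44,37,44,42,44,37],19,8⟩)) (.node (.leaf ⟨39,[43,41,42,41],14,4⟩) (.leaf ⟨45,[42,45,42,45,42],21,0⟩))) (.node (.node (.leaf ⟨38,[42,39,43],12,1⟩) (.leaf ⟨44,[37,42,44,42,44,37,44,42],19,6⟩)) (.node (.leaf ⟨45,[40,45,40,45,41,45,41],24,2⟩) (.leaf ⟨45,[41,45,40,45,40,45,41],24,0⟩)))) (.node (.node (.node (.leaf ⟨38,[37,38],3,1⟩) (.leaf ⟨45,[42,38,45,41,39,40,43,44,43,43,44,45,38],28,2⟩)) (.node (.leaf ⟨42,[45,42,45,42,45],21,3⟩) (.leaf ⟨45,[37,45,38,45,37,45,39,43,43],26,0⟩))) (.node (.node (.leaf ⟨40,[39,40,38,40,39],8,0⟩) (.leaf ⟨43,[43,44,37,43,45,43,43,44,43,37,45],27,7⟩))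 (.leaf ⟨45,[40,45,41,45,41,45,40],24,4⟩)))) (.node (.node (.node (.node (.leaf ⟨40,[41],4,0⟩) (.leaf ⟨45,[43,43,44,43,37,45,43,43,44,37,43],27,0⟩)) (.node (.leaf ⟨41,[39,43,41,42],14,3⟩) (.leaf ⟨45,[37,45,37,45,37,45,37],23,4⟩))) (.node (.node (.leaf ⟨42,[42,42,42],13,2⟩) (.leaf ⟨42,[44,37,42,44,42,44,37,44],19,5⟩)) (.leaf ⟨42,[45,37,45,37,43,45,37,45],25,3⟩))) (.node (.node (.node (.leaf ⟨37,[42,37,43],11,1⟩) (.leaf ⟨44,[40,44,41],16,0⟩)) (.node (.leaf ⟨37,[45,37,45,37,45,37,45],23,5⟩) (.leaf ⟨45,[44,45,44,45,44],22,2⟩))) (.node (.node (.leaf ⟨43,[38,42,39],12,0⟩) (.leaf ⟨37,[45,43,43,44,37,43,45,43,43,44,43],27,5⟩)) (.leaf ⟨44,[45,44,45,44,45],22,5⟩))))) (.node (.node (.node (.node (.node (.leaf ⟨38,[39],1,0⟩) (.leaf ⟨42,[42,42,42],13,1⟩)) (.node (.leaf ⟨43,[41,42,41,39],14,0⟩) (.leaf ⟨42,[38,45,41,39,40,43,44,43,43,44,45,38,45],28,3⟩)))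 (.node (.node (.leaf ⟨41,[44,40,44],16,3⟩) (.leaf ⟨43,[44,42,44,42,44,43,44],18,1⟩)) (.node (.leaf ⟨39,[40,39,40,38,40],8,5⟩) (.leaf ⟨37,[44,37,44,37,44],17,1⟩)))) (.node (.node (.node (.leaf ⟨37,[40,37,41],7,1⟩) (.leaf ⟨45,[41,45,41,45,40,45,40],24,6⟩)) (.node (.leaf ⟨44,[45,44,45,44,45],22,3⟩) (.leaf ⟨44,[37,44,37,44,37],17,0⟩))) (.node (.node (.leaf ⟨42,[41,39,43,41],14,2⟩) (.leaf ⟨38,[45,42,38,45,41,39,40,43,44,43,43,44,45],28,1⟩)) (.leaf ⟨39,[43,43,45,37,45,38,45,37,45],26,7⟩)))) (.node (.node (.node (.node (.leaf ⟨42,[43],9,0⟩) (.leaf ⟨42,[45,42,45,42,45],21,1⟩)) (.node (.leaf ⟨39,[40,38,40,39,40],8,1⟩) (.leaf ⟨45,[38,45,37,45,39,43,43,45,37],26,2⟩))) (.node (.node (.leaf ⟨40,[37,41,37],7,2⟩) (.leaf ⟨44,[37,44,37,44,37],17,2⟩)) (.leaf ⟨37,[45,37,43,45,37,45,42,45],25,5⟩))) (.node (.node (.node (.leaf ⟨38,[38,37],3,0⟩)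 (.leaf ⟨37,[44,37,44,37,44],17,3⟩)) (.node (.leaf ⟨40,[45,40,45,41,45,41,45],24,3⟩) (.leaf ⟨37,[43,45,37,45,42,45,37,45],25,7⟩))) (.node (.node (.leaf ⟨40,[39,40,39,40,38],8,4⟩) (.leaf ⟨41,[45,40,45,40,45,41,45],24,1⟩)) (.leaf ⟨44,[42,44,42,44,43,44,43],18,2⟩)))))))
noncomputable def tc0 : TCL := ⟨[37,38,39,40,41,42,43,44,45], [37,38,39,40,41,42,43,44], 540, 32, 0x7fff, 15, 0x7f,
  fun a x => look 0xffffffff (nth tc0T 0 a) x, fun x => look 0xffffffff tc0d x, tc0r⟩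
noncomputable def tc1T : List ℕ := [0,0,0,0,0,0,0,0,0,0,0,0,0,0,0,0,0,0,0,0,0,0,0,0,0,0,0,0,0,0,0,0,0,0,0,0,0,tc1t37,tc1t38,tc1t39,tc1t40,tc1t41,tc1t42,tc1t43,tc1t44]
noncomputable def tc1r : Tr Rule := (.node (.node (.node (.node (.node (.node (.leaf ⟨44,[44],15,1⟩) (.leaf ⟨41,[37,40,37],7,0⟩)) (.node (.leaf ⟨40,[40,40],6,2⟩) (.leaf ⟨44,[37,44,37,44,37],17,2⟩))) (.node (.node (.leaf ⟨38,[37,38],3,1⟩) (.leaf ⟨43,[44,42,44,42,44,43,44],18,1⟩)) (.leaf ⟨40,[37,41,37],7,2⟩))) (.node (.node (.node (.leaf ⟨43,[42],9,1⟩) (.leaf ⟨44,[37,44,37,44,37],17,4⟩)) (.leaf ⟨43,[37,42,37],11,0⟩)) (.node (.node (.leaf ⟨38,[38,37],3,0⟩) (.leaf ⟨44,[41,44,40],16,2⟩)) (.leaf ⟨38,[40,39,40,39,40],8,3⟩)))) (.node (.node (.node (.node (.leaf ⟨39,[38],1,1⟩) (.leaf ⟨40,[38,40,39,40,39],8,2⟩)) (.leaf ⟨37,[41,37,40],7,3⟩)) (.node (.node (.leaf ⟨37,[42,37,43],11,1⟩)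 (.leaf ⟨44,[37,42,44,42,44,37,44,42],19,6⟩)) (.leaf ⟨41,[42,41,39,43],14,1⟩))) (.node (.node (.node (.leaf ⟨41,[40],4,1⟩) (.leaf ⟨42,[44,42,44,43,44,43,44],18,3⟩)) (.leaf ⟨41,[44,40,44],16,3⟩)) (.node (.node (.leaf ⟨38,[42,39,43],12,1⟩) (.leaf ⟨44,[43,44,42,44,42,44,43],18,0⟩)) (.leaf ⟨39,[40,38,40,39,40],8,1⟩))))) (.node (.node (.node (.node (.node (.leaf ⟨37,[37],0,1⟩) (.leaf ⟨40,[39,40,39,40,38],8,4⟩)) (.node (.leaf ⟨37,[40,37,41],7,1⟩) (.leaf ⟨42,[42,42,42],13,3⟩))) (.node (.node (.leaf ⟨37,[43,37,42],11,3⟩) (.leaf ⟨43,[38,42,39],12,0⟩)) (.leaf ⟨41,[39,43,41,42],14,3⟩))) (.node (.node (.node (.leaf ⟨42,[43],9,0⟩) (.leaf ⟨42,[44,43,44,43,44,42,44],18,5⟩)) (.leaf ⟨39,[43,41,42,41],14,4⟩)) (.node (.node (.leaf ⟨39,[43,38,42],12,3⟩) (.leaf ⟨44,[40,44,41],16,0⟩)) (.leaf ⟨39,[40,39,40,38,40],8,5⟩)))) (.node (.node (.node (.node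 (.leaf ⟨38,[39],1,0⟩) (.leaf ⟨42,[37,43,37],11,2⟩)) (.leaf ⟨42,[41,39,43,41],14,2⟩)) (.node (.node (.leaf ⟨37,[38,38],3,2⟩) (.leaf ⟨37,[44,42,44,37,42,44,42,44],19,3⟩)) (.leaf ⟨40,[40,40],6,1⟩))) (.node (.node (.node (.leaf ⟨40,[41],4,0⟩) (.leaf ⟨43,[44,43,44,42,44,42,44],18,7⟩)) (.leaf ⟨40,[44,41,44],16,1⟩)) (.node (.node (.leaf ⟨42,[42,42,42],13,2⟩) (.leaf ⟨37,[44,37,44,37,44],17,3⟩)) (.leaf ⟨42,[39,43,38],12,2⟩))))))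
noncomputable def tc1 : TCL := ⟨[37,38,39,40,41,42,43,44], [37,38,39,40,41,42,43], 63, 24, 0x7ff, 11, 0x3f,
  fun a x => look 0xffffff (nth tc1T 0 a) x, fun x => look 0xffffff tc1d x, tc1r⟩
noncomputable def tc2T : List ℕ := [0,0,0,0,0,0,0,0,0,0,0,0,0,0,0,0,0,0,0,0,0,0,0,0,0,0,0,0,0,0,0,0,0,0,0,0,0,tc2t37,tc2t38,tc2t39,tc2t40,tc2t41,tc2t42,tc2t43]
noncomputable def tc2r : Tr Rule := (.node (.node (.node (.node (.leaf ⟨43,[42],9,1⟩) (.leaf ⟨42,[42,42,42],13,2⟩)) (.leaf ⟨39,[43,38,42],12,3⟩)) (.node (.node (.leaf ⟨37,[43,37,42],11,3⟩) (.leaf ⟨41,[42,41,39,43],14,1⟩)) (.leaf ⟨38,[39],1,0⟩))) (.node (.node (.node (.leaf ⟨42,[43],9,0⟩) (.leaf ⟨41,[39,43,41,42],14,3⟩)) (.leaf ⟨38,[42,39,43],12,1⟩)) (.node (.node (.leaf ⟨37,[42,37,43],11,1⟩) (.leaf ⟨40,[41],4,0⟩)) (.leaf ⟨39,[38],1,1⟩))))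
noncomputable def tc2 : TCL := ⟨[37,38,39,40,41,42,43], [37,38,39,40,41], 4, 16, 0x7f, 7, 0xf,
  fun a x => look 0xffff (nth tc2T 0 a) x, fun x => look 0xffff tc2d x, tc2r⟩
noncomputable def tc3T : List ℕ := [0,0,0,0,0,0,0,0,0,0,0,0,0,0,0,0,0,0,0,0,0,0,0,0,0,0,0,0,0,0,0,0,0,0,0,0,0,tc3t37,tc3t38,tc3t39,tc3t40,tc3t41]
noncomputable def tc3r : Tr Rule := (.node (.node (.node (.node (.leaf ⟨41,[40],4,1⟩) (.leaf ⟨40,[39,40,39,40,38],8,4⟩)) (.leaf ⟨37,[41,37,40],7,3⟩)) (.node (.node (.leaf ⟨39,[38],1,1⟩) (.leaf ⟨38,[40,39,40,39,40],8,3⟩)) (.leaf ⟨38,[38,37],3,0⟩))) (.node (.node (.node (.leaf ⟨40,[41],4,0⟩) (.leaf ⟨39,[40,39,40,38,40],8,5⟩)) (.leaf ⟨37,[40,37,41],7,1⟩)) (.node (.leaf ⟨40,[40,40],6,2⟩) (.leaf ⟨37,[38,38],3,2⟩))))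
noncomputable def tc3 : TCL := ⟨[37,38,39,40,41], [37,38,39], 6, 16, 0x7f, 7, 0xf,
  fun a x => look 0xffff (nth tc3T 0 a) x, fun x => look 0xffff tc3d x, tc3r⟩
noncomputable def tc4T : List ℕ := [0,0,0,0,0,0,0,0,0,0,0,0,0,0,0,0,0,0,0,0,0,0,0,0,0,0,0,0,0,0,0,0,0,0,0,0,0,tc4t37,tc4t38,tc4t39]
noncomputable def tc4r : Tr Rule := (.node (.node (.leaf ⟨39,[38],1,1⟩) (.leaf ⟨37,[38,38],3,2⟩)) (.leaf ⟨38,[38,37],3,0⟩))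
noncomputable def tc4 : TCL := ⟨[37,38,39], [37], 2, 16, 0x3f, 6, 0x7,
  fun a x => look 0xffff (nth tc4T 0 a) x, fun x => look 0xffff tc4d x, tc4r⟩
noncomputable def tc5T : List ℕ := [0,0,0,0,0,0,0,0,0,0,0,0,0,0,0,0,0,0,0,0,0,0,0,0,0,0,0,0,0,0,0,0,0,0,0,0,0,tc5t37]
noncomputable def tc5r : Tr Rule := (.leaf ⟨37,[37],0,1⟩)
noncomputable def tc5 : TCL := ⟨[37], [], 2, 16, 0x3f, 6, 0x3,
  fun a x => look 0xffff (nth tc5T 0 a) x, fun x => look 0xffff tc5d x, tc5r⟩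
noncomputable def tc : List TCL := [tc0, tc1, tc2, tc3, tc4, tc5]
noncomputable def inW : List (List ℕ) := [[41,45,43,44,42,41],
  [42,44,40,37,45,44,39,44,38,44,43,41,37],
  [44,42,45,41,45,44,40,39,44,42,41,38,40,37],
  [43,45,44,41,37,45,41,42,42,44,43,41,38,37]]
noncomputable def tcS : List ℕ := [37,38,39,40,41,42,43,44,45]

end Cfsg.Agent.CG.U43
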